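import Cfsg.Agent.Lib.H17.M22M.MonoTw

set_option autoImplicit false
set_option maxRecDepth 100000
set_option maxHeartbeats 4000000

/-! # The relations among the twist symbols (generated) -/

namespace Cfsg.Agent.Lib.H17.HSM.Cert

open Cfsg.Agent.Lib.H17.MonoCert

/-- the relation vectors -/
def relV : List (List ℤ) := [[1, 0, 1, 0, 0, 0, 0, 0, 0, -2, 0], [-2, 0, 0, 0, 2, 0, 0, 0, -2, 0, 0], [2, -2, 2, -2, 2, 0, 0, 0, 0, -2, -1], [-1, 0, 0, 3, 0, -2, 0, 0, 0, 1, -1], [0, 1, -2, 1, 2, 0, 0, 0, 0, -3, 0], [5, -4, -2, 3, 0, 0, 0, 0, 0, -2, 0], [-4, 3, 0, 0, -2, 0, 0, 0, -1, 6, 0], [-8, 0, 0, 0, 0, 0, 0, 2, 0, 0, 0], [12, -10, 5, -3, -2, -6, 0, -1, 0, 9, 1], [-13, 15, -17, 6, 1, 5, 0, 0, 0, 8, -1], [-6, -4, -19, 15, 16, -7,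 0, 0, 0, 9, -10], [-28, -14, -14, 12, 12, -12, -1, 0, 0, 24, -2], [-1, 0, 0, 1, 0, 0, 0, 0, 0, -1, 0], [-2, 2, 0, 0, 0, 0, 0, 0, 0, 0, 0], [0, 0, 2, -2, 0, 0, 0, 0, 0, 0, 0], [1, -2, 0, 1, 0, 0, 0, 0, 0, -1, 0], [-2, 0, 1, -1, 0, 0, 0, 0, 0, 1, 0], [-1, 0, 2, -1, 0, 0, 0, 0, 0, -1, 0], [-2, 0, -2, 0, 2, 0, 0, 0, 0, 0, 0], [2, 0, 0, 2, 0, 0, 0, 0, 0, 0, -2], [0, -2, -2, 0, 2, 0, 0, 0, 0, 0, 0], [2, 0, -2, 0, 0, 0, 0, 0, 0, 2, 0], [-2, 0, 0, 2, 0, 0, 0, 0, 0, -2, 0], [0, -2, 0, -2, 0, 0, 0, 0, 0, 0, 2], [2, 2, 0, 0, 0, 0, 0, 0, 0, -2, 0], [1, 0, -1, 2, 0, 0, 0, 0, 0, -2, 0], [1, -2, -1, 0, 0, 0, 0, 0, 0, 2, 0], [1, 0, 2, 1, -2, 0, 0, 0, 0, -1, 0], [1, 2, 0, 1, 0, 0, 0, 0, 0, 1, -2], [0, 0, -2, -2, 0, 0, 0, 0, 0, 2, 2]]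

theorem rel_alg_add {M : Type*} [AddCommGroup M] (a0 a1 a2 a3 a4 a5 a6 a7 a8 a9 a10 : M)
    (h0 : (1 : ℤ) • a0 + ((0 : ℤ) • a1 + ((1 : ℤ) • a2 + ((0 : ℤ) • a3 + ((0 : ℤ) • a4 + ((0 : ℤ) • a5 + ((0 : ℤ) • a6 + ((0 : ℤ) • a7 + ((0 : ℤ) • a8 + ((-2 : ℤ) • a9 + ((0 : ℤ) • a10 + 0)))))))))) = 0)
    (h1 : (-2 : ℤ) • a0 + ((0 : ℤ) • a1 + ((0 : ℤ) • a2 + ((0 : ℤ) • a3 + ((2 : ℤ) • a4 + ((0 : ℤ) • a5 + ((0 : ℤ) • a6 + ((0 : ℤ) • a7 + ((-2 : ℤ) • a8 + ((0 : ℤ) • a9 + ((0 : ℤ) • a10 + 0)))))))))) = 0)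
    (h2 : (2 : ℤ) • a0 + ((-2 : ℤ) • a1 + ((2 : ℤ) • a2 + ((-2 : ℤ) • a3 + ((2 : ℤ) • a4 + ((0 : ℤ) • a5 + ((0 : ℤ) • a6 + ((0 : ℤ) • a7 + ((0 : ℤ) • a8 + ((-2 : ℤ) • a9 + ((-1 : ℤ) • a10 + 0)))))))))) = 0)
    (h3 : (-1 : ℤ) • a0 + ((0 : ℤ) • a1 + ((0 : ℤ) • a2 + ((3 : ℤ) • a3 + ((0 : ℤ) • a4 + ((-2 : ℤ) • a5 + ((0 : ℤ) • a6 + ((0 : ℤ) • a7 + ((0 : ℤ) • a8 + ((1 : ℤ) • a9 + ((-1 : ℤ) • a10 + 0)))))))))) = 0)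
    (h4 : (0 : ℤ) • a0 + ((1 : ℤ) • a1 + ((-2 : ℤ) • a2 + ((1 : ℤ) • a3 + ((2 : ℤ) • a4 + ((0 : ℤ) • a5 + ((0 : ℤ) • a6 + ((0 : ℤ) • a7 + ((0 : ℤ) • a8 + ((-3 : ℤ) • a9 + ((0 : ℤ) • a10 + 0)))))))))) = 0)
    (h5 : (5 : ℤ) • a0 + ((-4 : ℤ) • a1 + ((-2 : ℤ) • a2 + ((3 : ℤ) • a3 + ((0 : ℤ) • a4 + ((0 : ℤ) • a5 + ((0 : ℤ) • a6 + ((0 : ℤ) • a7 + ((0 : ℤ) • a8 + ((-2 : ℤ) • a9 + ((0 : ℤ) • a10 + 0)))))))))) = 0)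
    (h6 : (-4 : ℤ) • a0 + ((3 : ℤ) • a1 + ((0 : ℤ) • a2 + ((0 : ℤ) • a3 + ((-2 : ℤ) • a4 + ((0 : ℤ) • a5 + ((0 : ℤ) • a6 + ((0 : ℤ) • a7 + ((-1 : ℤ) • a8 + ((6 : ℤ) • a9 + ((0 : ℤ) • a10 + 0)))))))))) = 0)
    (h7 : (-8 : ℤ) • a0 + ((0 : ℤ) • a1 + ((0 : ℤ) • a2 + ((0 : ℤ) • a3 + ((0 : ℤ) • a4 + ((0 : ℤ) • a5 + ((0 : ℤ) • a6 + ((2 : ℤ) • a7 + ((0 : ℤ) • a8 + ((0 : ℤ) • a9 + ((0 : ℤ) • a10 + 0)))))))))) = 0)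
    (h8 : (12 : ℤ) • a0 + ((-10 : ℤ) • a1 + ((5 : ℤ) • a2 + ((-3 : ℤ) • a3 + ((-2 : ℤ) • a4 + ((-6 : ℤ) • a5 + ((0 : ℤ) • a6 + ((-1 : ℤ) • a7 + ((0 : ℤ) • a8 + ((9 : ℤ) • a9 + ((1 : ℤ) • a10 + 0)))))))))) = 0)
    (h9 : (-13 : ℤ) • a0 + ((15 : ℤ) • a1 + ((-17 : ℤ) • a2 + ((6 : ℤ) • a3 + ((1 : ℤ) • a4 + ((5 : ℤ) • a5 + ((0 : ℤ) • a6 + ((0 : ℤ) • a7 + ((0 : ℤ) • a8 + ((8 : ℤ) • a9 + ((-1 : ℤ) • a10 + 0)))))))))) = 0)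
    (h10 : (-6 : ℤ) • a0 + ((-4 : ℤ) • a1 + ((-19 : ℤ) • a2 + ((15 : ℤ) • a3 + ((16 : ℤ) • a4 + ((-7 : ℤ) • a5 + ((0 : ℤ) • a6 + ((0 : ℤ) • a7 + ((0 : ℤ) • a8 + ((9 : ℤ) • a9 + ((-10 : ℤ) • a10 + 0)))))))))) = 0)
    (h11 : (-28 : ℤ) • a0 + ((-14 : ℤ) • a1 + ((-14 : ℤ) • a2 + ((12 : ℤ) • a3 + ((12 : ℤ) • a4 + ((-12 : ℤ) • a5 + ((-1 : ℤ) • a6 + ((0 : ℤ) • a7 + ((0 : ℤ) • a8 + ((24 : ℤ) • a9 + ((-2 : ℤ) • a10 + 0)))))))))) = 0)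
    (h12 : (-1 : ℤ) • a0 + ((0 : ℤ) • a1 + ((0 : ℤ) • a2 + ((1 : ℤ) • a3 + ((0 : ℤ) • a4 + ((0 : ℤ) • a5 + ((0 : ℤ) • a6 + ((0 : ℤ) • a7 + ((0 : ℤ) • a8 + ((-1 : ℤ) • a9 + ((0 : ℤ) • a10 + 0)))))))))) = 0)
    (h13 : (-2 : ℤ) • a0 + ((2 : ℤ) • a1 + ((0 : ℤ) • a2 + ((0 : ℤ) • a3 + ((0 : ℤ) • a4 + ((0 : ℤ) • a5 + ((0 : ℤ) • a6 + ((0 : ℤ) • a7 + ((0 : ℤ) • a8 + ((0 : ℤ) • a9 + ((0 : ℤ) • a10 + 0)))))))))) = 0)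
    (h14 : (0 : ℤ) • a0 + ((0 : ℤ) • a1 + ((2 : ℤ) • a2 + ((-2 : ℤ) • a3 + ((0 : ℤ) • a4 + ((0 : ℤ) • a5 + ((0 : ℤ) • a6 + ((0 : ℤ) • a7 + ((0 : ℤ) • a8 + ((0 : ℤ) • a9 + ((0 : ℤ) • a10 + 0)))))))))) = 0)
    (h15 : (1 : ℤ) • a0 + ((-2 : ℤ) • a1 + ((0 : ℤ) • a2 + ((1 : ℤ) • a3 + ((0 : ℤ) • a4 + ((0 : ℤ) • a5 + ((0 : ℤ) • a6 + ((0 : ℤ) • a7 + ((0 : ℤ) • a8 + ((-1 : ℤ) • a9 + ((0 : ℤ) • a10 + 0)))))))))) = 0)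
    (h16 : (-2 : ℤ) • a0 + ((0 : ℤ) • a1 + ((1 : ℤ) • a2 + ((-1 : ℤ) • a3 + ((0 : ℤ) • a4 + ((0 : ℤ) • a5 + ((0 : ℤ) • a6 + ((0 : ℤ) • a7 + ((0 : ℤ) • a8 + ((1 : ℤ) • a9 + ((0 : ℤ) • a10 + 0)))))))))) = 0)
    (h17 : (-1 : ℤ) • a0 + ((0 : ℤ) • a1 + ((2 : ℤ) • a2 + ((-1 : ℤ) • a3 + ((0 : ℤ) • a4 + ((0 : ℤ) • a5 + ((0 : ℤ) • a6 + ((0 : ℤ) • a7 + ((0 : ℤ) • a8 + ((-1 : ℤ) • a9 + ((0 : ℤ) • a10 + 0)))))))))) = 0)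
    (h18 : (-2 : ℤ) • a0 + ((0 : ℤ) • a1 + ((-2 : ℤ) • a2 + ((0 : ℤ) • a3 + ((2 : ℤ) • a4 + ((0 : ℤ) • a5 + ((0 : ℤ) • a6 + ((0 : ℤ) • a7 + ((0 : ℤ) • a8 + ((0 : ℤ) • a9 + ((0 : ℤ) • a10 + 0)))))))))) = 0)
    (h19 : (2 : ℤ) • a0 + ((0 : ℤ) • a1 + ((0 : ℤ) • a2 + ((2 : ℤ) • a3 + ((0 : ℤ) • a4 + ((0 : ℤ) • a5 + ((0 : ℤ) • a6 + ((0 : ℤ) • a7 + ((0 : ℤ) • a8 + ((0 : ℤ) • a9 + ((-2 : ℤ) • a10 + 0)))))))))) = 0)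
    (h20 : (0 : ℤ) • a0 + ((-2 : ℤ) • a1 + ((-2 : ℤ) • a2 + ((0 : ℤ) • a3 + ((2 : ℤ) • a4 + ((0 : ℤ) • a5 + ((0 : ℤ) • a6 + ((0 : ℤ) • a7 + ((0 : ℤ) • a8 + ((0 : ℤ) • a9 + ((0 : ℤ) • a10 + 0)))))))))) = 0)
    (h21 : (2 : ℤ) • a0 + ((0 : ℤ) • a1 + ((-2 : ℤ) • a2 + ((0 : ℤ) • a3 + ((0 : ℤ) • a4 + ((0 : ℤ) • a5 + ((0 : ℤ) • a6 + ((0 : ℤ) • a7 + ((0 : ℤ) • a8 + ((2 : ℤ) • a9 + ((0 : ℤ) • a10 + 0)))))))))) = 0)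
    (h22 : (-2 : ℤ) • a0 + ((0 : ℤ) • a1 + ((0 : ℤ) • a2 + ((2 : ℤ) • a3 + ((0 : ℤ) • a4 + ((0 : ℤ) • a5 + ((0 : ℤ) • a6 + ((0 : ℤ) • a7 + ((0 : ℤ) • a8 + ((-2 : ℤ) • a9 + ((0 : ℤ) • a10 + 0)))))))))) = 0)
    (h23 : (0 : ℤ) • a0 + ((-2 : ℤ) • a1 + ((0 : ℤ) • a2 + ((-2 : ℤ) • a3 + ((0 : ℤ) • a4 + ((0 : ℤ) • a5 + ((0 : ℤ) • a6 + ((0 : ℤ) • a7 + ((0 : ℤ) • a8 + ((0 : ℤ) • a9 + ((2 : ℤ) • a10 + 0)))))))))) = 0)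
    (h24 : (2 : ℤ) • a0 + ((2 : ℤ) • a1 + ((0 : ℤ) • a2 + ((0 : ℤ) • a3 + ((0 : ℤ) • a4 + ((0 : ℤ) • a5 + ((0 : ℤ) • a6 + ((0 : ℤ) • a7 + ((0 : ℤ) • a8 + ((-2 : ℤ) • a9 + ((0 : ℤ) • a10 + 0)))))))))) = 0)
    (h25 : (1 : ℤ) • a0 + ((0 : ℤ) • a1 + ((-1 : ℤ) • a2 + ((2 : ℤ) • a3 + ((0 : ℤ) • a4 + ((0 : ℤ) • a5 + ((0 : ℤ) • a6 + ((0 : ℤ) • a7 + ((0 : ℤ) • a8 + ((-2 : ℤ) • a9 + ((0 : ℤ) • a10 + 0)))))))))) = 0)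
    (h26 : (1 : ℤ) • a0 + ((-2 : ℤ) • a1 + ((-1 : ℤ) • a2 + ((0 : ℤ) • a3 + ((0 : ℤ) • a4 + ((0 : ℤ) • a5 + ((0 : ℤ) • a6 + ((0 : ℤ) • a7 + ((0 : ℤ) • a8 + ((2 : ℤ) • a9 + ((0 : ℤ) • a10 + 0)))))))))) = 0)
    (h27 : (1 : ℤ) • a0 + ((0 : ℤ) • a1 + ((2 : ℤ) • a2 + ((1 : ℤ) • a3 + ((-2 : ℤ) • a4 + ((0 : ℤ) • a5 + ((0 : ℤ) • a6 + ((0 : ℤ) • a7 + ((0 : ℤ) • a8 + ((-1 : ℤ) • a9 + ((0 : ℤ) • a10 + 0)))))))))) = 0)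
    (h28 : (1 : ℤ) • a0 + ((2 : ℤ) • a1 + ((0 : ℤ) • a2 + ((1 : ℤ) • a3 + ((0 : ℤ) • a4 + ((0 : ℤ) • a5 + ((0 : ℤ) • a6 + ((0 : ℤ) • a7 + ((0 : ℤ) • a8 + ((1 : ℤ) • a9 + ((-2 : ℤ) • a10 + 0)))))))))) = 0)
    (h29 : (0 : ℤ) • a0 + ((0 : ℤ) • a1 + ((-2 : ℤ) • a2 + ((-2 : ℤ) • a3 + ((0 : ℤ) • a4 + ((0 : ℤ) • a5 + ((0 : ℤ) • a6 + ((0 : ℤ) • a7 + ((0 : ℤ) • a8 + ((2 : ℤ) • a9 + ((2 : ℤ) • a10 + 0)))))))))) = 0)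
    : (2 : ℤ) • a0 = 0 ∧ a1 = (1 : ℤ) • a0 ∧ a2 = (1 : ℤ) • a0 ∧ a3 = (1 : ℤ) • a0 ∧ a4 = (1 : ℤ) • a0 ∧ a5 = (0 : ℤ) • a0 ∧ a6 = (0 : ℤ) • a0 ∧ a7 = (0 : ℤ) • a0 ∧ a8 = (1 : ℤ) • a0 ∧ a9 = (0 : ℤ) • a0 ∧ a10 = (0 : ℤ) • a0 := by
  have g0 : (2 : ℤ) • a0 = 0 := by
    linear_combination (norm := module) (1 : ℤ) • h1 + (2 : ℤ) • h2 + (6 : ℤ) • h3 + (2 : ℤ) • h4 + (-2 : ℤ) • h6 + (1 : ℤ) • h7 + (2 : ℤ) • h8 + (2 : ℤ) • h9 + (-2 : ℤ) • h10 + (-1 : ℤ) • h13 + (1 : ℤ) • h15 + (1 : ℤ) • h16 + (3 : ℤ) • h18 + (1 : ℤ) • h19 + (4 : ℤ) • h20 + (-1 : ℤ) • h23 + (1 : ℤ) • h26 + (-3 : ℤ) • h27 + (1 : ℤ) • h28 + (-3 : ℤ) • h29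
  refine ⟨g0, ?_, ?_, ?_, ?_, ?_, ?_, ?_, ?_, ?_, ?_⟩
  · linear_combination (norm := module) (1 : ℤ) • h4 + (1 : ℤ) • h12 + (-1 : ℤ) • h15 + (1 : ℤ) • h19 + (1 : ℤ) • h21 + (1 : ℤ) • h23 + (-1 : ℤ) • h24 + (-1 : ℤ) • h25 + (-1 : ℤ) • h26 + (1 : ℤ) • h27
  · linear_combination (norm := module) (-1 : ℤ) • h0 + (1 : ℤ) • h1 + (4 : ℤ) • h2 + (6 : ℤ) • h3 + (2 : ℤ) • h4 + (-2 : ℤ) • h6 + (1 : ℤ) • h7 + (2 : ℤ) • h8 + (2 : ℤ) • h9 + (-2 : ℤ) • h10 + (1 : ℤ) • h12 + (-1 : ℤ) • h14 + (3 : ℤ) • h18 + (2 : ℤ) • h19 + (3 : ℤ) • h20 + (1 : ℤ) • h22 + (-1 : ℤ) • h23 + (-2 : ℤ) • h24 + (-2 : ℤ) • h27 + (1 : ℤ) • h28 + (-1 : ℤ) • h29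
  · linear_combination (norm := module) (-1 : ℤ) • h0 + (1 : ℤ) • h1 + (4 : ℤ) • h2 + (6 : ℤ) • h3 + (2 : ℤ) • h4 + (1 : ℤ) • h5 + (-2 : ℤ) • h6 + (1 : ℤ) • h7 + (2 : ℤ) • h8 + (2 : ℤ) • h9 + (-2 : ℤ) • h10 + (1 : ℤ) • h12 + (1 : ℤ) • h13 + (-1 : ℤ) • h14 + (-1 : ℤ) • h15 + (1 : ℤ) • h16 + (3 : ℤ) • h18 + (2 : ℤ) • h19 + (3 : ℤ) • h20 + (1 : ℤ) • h22 + (-1 : ℤ) • h23 + (-2 : ℤ) • h24 + (-2 : ℤ) • h27 + (1 : ℤ) • h28 + (-1 : ℤ) • h29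
  · linear_combination (norm := module) (-1 : ℤ) • h0 + (1 : ℤ) • h1 + (5 : ℤ) • h2 + (6 : ℤ) • h3 + (5 : ℤ) • h4 + (2 : ℤ) • h5 + (-2 : ℤ) • h6 + (2 : ℤ) • h7 + (4 : ℤ) • h8 + (3 : ℤ) • h9 + (-3 : ℤ) • h10 + (1 : ℤ) • h12 + (2 : ℤ) • h13 + (-2 : ℤ) • h14 + (-1 : ℤ) • h15 + (2 : ℤ) • h16 + (6 : ℤ) • h18 + (3 : ℤ) • h19 + (4 : ℤ) • h20 + (-1 : ℤ) • h21 + (2 : ℤ) • h22 + (-2 : ℤ) • h23 + (-3 : ℤ) • h24 + (-1 : ℤ) • h26 + (-4 : ℤ) • h27 + (2 : ℤ) • h28 + (-3 : ℤ) • h29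
  · linear_combination (norm := module) (-1 : ℤ) • h0 + (1 : ℤ) • h1 + (3 : ℤ) • h2 + (9 : ℤ) • h3 + (4 : ℤ) • h4 + (-2 : ℤ) • h6 + (1 : ℤ) • h7 + (2 : ℤ) • h8 + (2 : ℤ) • h9 + (-3 : ℤ) • h10 + (-1 : ℤ) • h14 + (1 : ℤ) • h15 + (5 : ℤ) • h18 + (3 : ℤ) • h19 + (5 : ℤ) • h20 + (-2 : ℤ) • h23 + (-3 : ℤ) • h24 + (2 : ℤ) • h26 + (-5 : ℤ) • h27 + (2 : ℤ) • h28 + (-2 : ℤ) • h29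
  · linear_combination (norm := module) (-3 : ℤ) • h0 + (2 : ℤ) • h1 + (4 : ℤ) • h2 + (12 : ℤ) • h3 + (6 : ℤ) • h4 + (-4 : ℤ) • h6 + (3 : ℤ) • h7 + (6 : ℤ) • h8 + (4 : ℤ) • h9 + (-4 : ℤ) • h10 + (-1 : ℤ) • h11 + (2 : ℤ) • h12 + (2 : ℤ) • h13 + (-3 : ℤ) • h14 + (1 : ℤ) • h15 + (3 : ℤ) • h16 + (10 : ℤ) • h18 + (3 : ℤ) • h19 + (8 : ℤ) • h20 + (-2 : ℤ) • h21 + (4 : ℤ) • h22 + (-5 : ℤ) • h23 + (-6 : ℤ) • h24 + (2 : ℤ) • h26 + (-8 : ℤ) • h27 + (2 : ℤ) • h28 + (-4 : ℤ) • h29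
  · linear_combination (norm := module) (-2 : ℤ) • h0 + (2 : ℤ) • h1 + (6 : ℤ) • h2 + (9 : ℤ) • h3 + (6 : ℤ) • h4 + (-4 : ℤ) • h6 + (3 : ℤ) • h7 + (5 : ℤ) • h8 + (4 : ℤ) • h9 + (-4 : ℤ) • h10 + (1 : ℤ) • h12 + (1 : ℤ) • h13 + (-2 : ℤ) • h14 + (1 : ℤ) • h15 + (-1 : ℤ) • h17 + (6 : ℤ) • h18 + (3 : ℤ) • h19 + (6 : ℤ) • h20 + (-1 : ℤ) • h21 + (2 : ℤ) • h22 + (-4 : ℤ) • h23 + (-3 : ℤ) • h24 + (1 : ℤ) • h26 + (-5 : ℤ) • h27 + (2 : ℤ) • h28 + (-4 : ℤ) • h29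
  · linear_combination (norm := module) (-2 : ℤ) • h0 + (1 : ℤ) • h1 + (4 : ℤ) • h2 + (6 : ℤ) • h3 + (1 : ℤ) • h4 + (-3 : ℤ) • h6 + (1 : ℤ) • h7 + (2 : ℤ) • h8 + (2 : ℤ) • h9 + (-2 : ℤ) • h10 + (1 : ℤ) • h12 + (1 : ℤ) • h13 + (-2 : ℤ) • h14 + (-1 : ℤ) • h15 + (3 : ℤ) • h18 + (2 : ℤ) • h19 + (3 : ℤ) • h20 + (1 : ℤ) • h22 + (-1 : ℤ) • h23 + (-2 : ℤ) • h24 + (-2 : ℤ) • h27 + (1 : ℤ) • h28 + (-1 : ℤ) • h29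
  · linear_combination (norm := module) (-1 : ℤ) • h0 + (1 : ℤ) • h1 + (4 : ℤ) • h2 + (6 : ℤ) • h3 + (2 : ℤ) • h4 + (1 : ℤ) • h5 + (-2 : ℤ) • h6 + (1 : ℤ) • h7 + (2 : ℤ) • h8 + (2 : ℤ) • h9 + (-2 : ℤ) • h10 + (-1 : ℤ) • h14 + (1 : ℤ) • h16 + (3 : ℤ) • h18 + (1 : ℤ) • h19 + (2 : ℤ) • h20 + (1 : ℤ) • h22 + (-2 : ℤ) • h23 + (-2 : ℤ) • h24 + (-3 : ℤ) • h27 + (1 : ℤ) • h28 + (-1 : ℤ) • h29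
  · linear_combination (norm := module) (-2 : ℤ) • h0 + (3 : ℤ) • h1 + (5 : ℤ) • h2 + (12 : ℤ) • h3 + (4 : ℤ) • h4 + (-6 : ℤ) • h6 + (2 : ℤ) • h7 + (4 : ℤ) • h8 + (4 : ℤ) • h9 + (-4 : ℤ) • h10 + (1 : ℤ) • h12 + (-1 : ℤ) • h14 + (1 : ℤ) • h15 + (1 : ℤ) • h16 + (6 : ℤ) • h18 + (3 : ℤ) • h19 + (5 : ℤ) • h20 + (1 : ℤ) • h22 + (-3 : ℤ) • h23 + (-3 : ℤ) • h24 + (-1 : ℤ) • h25 + (2 : ℤ) • h26 + (-5 : ℤ) • h27 + (2 : ℤ) • h28 + (-3 : ℤ) • h29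

theorem rel_alg {A : Type*} [CommGroup A] (z0 z1 z2 z3 z4 z5 z6 z7 z8 z9 z10 : A)
    (h0 : ltw [z0, z1, z2, z3, z4, z5, z6, z7, z8, z9, z10] [1, 0, 1, 0, 0, 0, 0, 0, 0, -2, 0] = 1)
    (h1 : ltw [z0, z1, z2, z3, z4, z5, z6, z7, z8, z9, z10] [-2, 0, 0, 0, 2, 0, 0, 0, -2, 0, 0] = 1)
    (h2 : ltw [z0, z1, z2, z3, z4, z5, z6, z7, z8, z9, z10] [2, -2, 2, -2, 2, 0, 0, 0, 0, -2, -1] = 1)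
    (h3 : ltw [z0, z1, z2, z3, z4, z5, z6, z7, z8, z9, z10] [-1, 0, 0, 3, 0, -2, 0, 0, 0, 1, -1] = 1)
    (h4 : ltw [z0, z1, z2, z3, z4, z5, z6, z7, z8, z9, z10] [0, 1, -2, 1, 2, 0, 0, 0, 0, -3, 0] = 1)
    (h5 : ltw [z0, z1, z2, z3, z4, z5, z6, z7, z8, z9, z10] [5, -4, -2, 3, 0, 0, 0, 0, 0, -2, 0] = 1)
    (h6 : ltw [z0, z1, z2, z3, z4, z5, z6, z7, z8, z9, z10] [-4, 3, 0, 0, -2, 0, 0, 0, -1, 6, 0] = 1)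
    (h7 : ltw [z0, z1, z2, z3, z4, z5, z6, z7, z8, z9, z10] [-8, 0, 0, 0, 0, 0, 0, 2, 0, 0, 0] = 1)
    (h8 : ltw [z0, z1, z2, z3, z4, z5, z6, z7, z8, z9, z10] [12, -10, 5, -3, -2, -6, 0, -1, 0, 9, 1] = 1)
    (h9 : ltw [z0, z1, z2, z3, z4, z5, z6, z7, z8, z9, z10] [-13, 15, -17, 6, 1, 5, 0, 0, 0, 8, -1] = 1)
    (h10 : ltw [z0, z1, z2, z3, z4, z5, z6, z7, z8, z9, z10] [-6, -4, -19, 15, 16, -7, 0, 0, 0, 9, -10] = 1)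
    (h11 : ltw [z0, z1, z2, z3, z4, z5, z6, z7, z8, z9, z10] [-28, -14, -14, 12, 12, -12, -1, 0, 0, 24, -2] = 1)
    (h12 : ltw [z0, z1, z2, z3, z4, z5, z6, z7, z8, z9, z10] [-1, 0, 0, 1, 0, 0, 0, 0, 0, -1, 0] = 1)
    (h13 : ltw [z0, z1, z2, z3, z4, z5, z6, z7, z8, z9, z10] [-2, 2, 0, 0, 0, 0, 0, 0, 0, 0, 0] = 1)
    (h14 : ltw [z0, z1, z2, z3, z4, z5, z6, z7, z8, z9, z10] [0, 0, 2, -2, 0, 0, 0, 0, 0, 0, 0] = 1)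
    (h15 : ltw [z0, z1, z2, z3, z4, z5, z6, z7, z8, z9, z10] [1, -2, 0, 1, 0, 0, 0, 0, 0, -1, 0] = 1)
    (h16 : ltw [z0, z1, z2, z3, z4, z5, z6, z7, z8, z9, z10] [-2, 0, 1, -1, 0, 0, 0, 0, 0, 1, 0] = 1)
    (h17 : ltw [z0, z1, z2, z3, z4, z5, z6, z7, z8, z9, z10] [-1, 0, 2, -1, 0, 0, 0, 0, 0, -1, 0] = 1)
    (h18 : ltw [z0, z1, z2, z3, z4, z5, z6, z7, z8, z9, z10] [-2, 0, -2, 0, 2, 0, 0, 0, 0, 0, 0] = 1)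
    (h19 : ltw [z0, z1, z2, z3, z4, z5, z6, z7, z8, z9, z10] [2, 0, 0, 2, 0, 0, 0, 0, 0, 0, -2] = 1)
    (h20 : ltw [z0, z1, z2, z3, z4, z5, z6, z7, z8, z9, z10] [0, -2, -2, 0, 2, 0, 0, 0, 0, 0, 0] = 1)
    (h21 : ltw [z0, z1, z2, z3, z4, z5, z6, z7, z8, z9, z10] [2, 0, -2, 0, 0, 0, 0, 0, 0, 2, 0] = 1)
    (h22 : ltw [z0, z1, z2, z3, z4, z5, z6, z7, z8, z9, z10] [-2, 0, 0, 2, 0, 0, 0, 0, 0, -2, 0] = 1)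
    (h23 : ltw [z0, z1, z2, z3, z4, z5, z6, z7, z8, z9, z10] [0, -2, 0, -2, 0, 0, 0, 0, 0, 0, 2] = 1)
    (h24 : ltw [z0, z1, z2, z3, z4, z5, z6, z7, z8, z9, z10] [2, 2, 0, 0, 0, 0, 0, 0, 0, -2, 0] = 1)
    (h25 : ltw [z0, z1, z2, z3, z4, z5, z6, z7, z8, z9, z10] [1, 0, -1, 2, 0, 0, 0, 0, 0, -2, 0] = 1)
    (h26 : ltw [z0, z1, z2, z3, z4, z5, z6, z7, z8, z9, z10] [1, -2, -1, 0, 0, 0, 0, 0, 0, 2, 0] = 1)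
    (h27 : ltw [z0, z1, z2, z3, z4, z5, z6, z7, z8, z9, z10] [1, 0, 2, 1, -2, 0, 0, 0, 0, -1, 0] = 1)
    (h28 : ltw [z0, z1, z2, z3, z4, z5, z6, z7, z8, z9, z10] [1, 2, 0, 1, 0, 0, 0, 0, 0, 1, -2] = 1)
    (h29 : ltw [z0, z1, z2, z3, z4, z5, z6, z7, z8, z9, z10] [0, 0, -2, -2, 0, 0, 0, 0, 0, 2, 2] = 1)
    : z0 ^ (2 : ℤ) = 1 ∧ z1 = z0 ^ (1 : ℤ) ∧ z2 = z0 ^ (1 : ℤ) ∧ z3 = z0 ^ (1 : ℤ) ∧ z4 = z0 ^ (1 : ℤ) ∧ z5 = z0 ^ (0 : ℤ) ∧ z6 = z0 ^ (0 : ℤ) ∧ z7 = z0 ^ (0 : ℤ) ∧ z8 = z0 ^ (1 : ℤ) ∧ z9 = z0 ^ (0 : ℤ) ∧ z10 = z0 ^ (0 : ℤ) := by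
  have key := rel_alg_add (M := Additive A) (Additive.ofMul z0) (Additive.ofMul z1) (Additive.ofMul z2) (Additive.ofMul z3) (Additive.ofMul z4) (Additive.ofMul z5) (Additive.ofMul z6) (Additive.ofMul z7) (Additive.ofMul z8) (Additive.ofMul z9) (Additive.ofMul z10)
    (by
      have h : z0 ^ (1 : ℤ) * (z1 ^ (0 : ℤ) * (z2 ^ (1 : ℤ) * (z3 ^ (0 : ℤ) * (z4 ^ (0 : ℤ) * (z5 ^ (0 : ℤ) * (z6 ^ (0 : ℤ) * (z7 ^ (0 : ℤ) * (z8 ^ (0 : ℤ) * (z9 ^ (-2 : ℤ) * (z10 ^ (0 : ℤ) * 1)))))))))) = 1 := h0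
      have := congrArg Additive.ofMul h
      simpa only [ofMul_mul, ofMul_zpow, ofMul_one] using this)
    (by
      have h : z0 ^ (-2 : ℤ) * (z1 ^ (0 : ℤ) * (z2 ^ (0 : ℤ) * (z3 ^ (0 : ℤ) * (z4 ^ (2 : ℤ) * (z5 ^ (0 : ℤ) * (z6 ^ (0 : ℤ) * (z7 ^ (0 : ℤ) * (z8 ^ (-2 : ℤ) * (z9 ^ (0 : ℤ) * (z10 ^ (0 : ℤ) * 1)))))))))) = 1 := h1
      have := congrArg Additive.ofMul h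
      simpa only [ofMul_mul, ofMul_zpow, ofMul_one] using this)
    (by
      have h : z0 ^ (2 : ℤ) * (z1 ^ (-2 : ℤ) * (z2 ^ (2 : ℤ) * (z3 ^ (-2 : ℤ) * (z4 ^ (2 : ℤ) * (z5 ^ (0 : ℤ) * (z6 ^ (0 : ℤ) * (z7 ^ (0 : ℤ) * (z8 ^ (0 : ℤ) * (z9 ^ (-2 : ℤ) * (z10 ^ (-1 : ℤ) * 1)))))))))) = 1 := h2
      have := congrArg Additive.ofMul h
      simpa only [ofMul_mul, ofMul_zpow, ofMul_one] using this)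
    (by
      have h : z0 ^ (-1 : ℤ) * (z1 ^ (0 : ℤ) * (z2 ^ (0 : ℤ) * (z3 ^ (3 : ℤ) * (z4 ^ (0 : ℤ) * (z5 ^ (-2 : ℤ) * (z6 ^ (0 : ℤ) * (z7 ^ (0 : ℤ) * (z8 ^ (0 : ℤ) * (z9 ^ (1 : ℤ) * (z10 ^ (-1 : ℤ) * 1)))))))))) = 1 := h3
      have := congrArg Additive.ofMul h
      simpa only [ofMul_mul, ofMul_zpow, ofMul_one] using this)
    (by
      have h : z0 ^ (0 : ℤ) * (z1 ^ (1 : ℤ) * (z2 ^ (-2 : ℤ) * (z3 ^ (1 : ℤ) * (z4 ^ (2 : ℤ) * (z5 ^ (0 : ℤ) * (z6 ^ (0 : ℤ) * (z7 ^ (0 : ℤ) * (z8 ^ (0 : ℤ) * (z9 ^ (-3 : ℤ) * (z10 ^ (0 : ℤ) * 1)))))))))) = 1 := h4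
      have := congrArg Additive.ofMul h
      simpa only [ofMul_mul, ofMul_zpow, ofMul_one] using this)
    (by
      have h : z0 ^ (5 : ℤ) * (z1 ^ (-4 : ℤ) * (z2 ^ (-2 : ℤ) * (z3 ^ (3 : ℤ) * (z4 ^ (0 : ℤ) * (z5 ^ (0 : ℤ) * (z6 ^ (0 : ℤ) * (z7 ^ (0 : ℤ) * (z8 ^ (0 : ℤ) * (z9 ^ (-2 : ℤ) * (z10 ^ (0 : ℤ) * 1)))))))))) = 1 := h5
      have := congrArg Additive.ofMul h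
      simpa only [ofMul_mul, ofMul_zpow, ofMul_one] using this)
    (by
      have h : z0 ^ (-4 : ℤ) * (z1 ^ (3 : ℤ) * (z2 ^ (0 : ℤ) * (z3 ^ (0 : ℤ) * (z4 ^ (-2 : ℤ) * (z5 ^ (0 : ℤ) * (z6 ^ (0 : ℤ) * (z7 ^ (0 : ℤ) * (z8 ^ (-1 : ℤ) * (z9 ^ (6 : ℤ) * (z10 ^ (0 : ℤ) * 1)))))))))) = 1 := h6
      have := congrArg Additive.ofMul h
      simpa only [ofMul_mul, ofMul_zpow, ofMul_one] using this)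
    (by
      have h : z0 ^ (-8 : ℤ) * (z1 ^ (0 : ℤ) * (z2 ^ (0 : ℤ) * (z3 ^ (0 : ℤ) * (z4 ^ (0 : ℤ) * (z5 ^ (0 : ℤ) * (z6 ^ (0 : ℤ) * (z7 ^ (2 : ℤ) * (z8 ^ (0 : ℤ) * (z9 ^ (0 : ℤ) * (z10 ^ (0 : ℤ) * 1)))))))))) = 1 := h7
      have := congrArg Additive.ofMul h
      simpa only [ofMul_mul, ofMul_zpow, ofMul_one] using this)
    (by
      have h : z0 ^ (12 : ℤ) * (z1 ^ (-10 : ℤ) * (z2 ^ (5 : ℤ) * (z3 ^ (-3 : ℤ) * (z4 ^ (-2 : ℤ) * (z5 ^ (-6 : ℤ) * (z6 ^ (0 : ℤ) * (z7 ^ (-1 : ℤ) * (z8 ^ (0 : ℤ) * (z9 ^ (9 : ℤ) * (z10 ^ (1 : ℤ) * 1)))))))))) = 1 := h8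
      have := congrArg Additive.ofMul h
      simpa only [ofMul_mul, ofMul_zpow, ofMul_one] using this)
    (by
      have h : z0 ^ (-13 : ℤ) * (z1 ^ (15 : ℤ) * (z2 ^ (-17 : ℤ) * (z3 ^ (6 : ℤ) * (z4 ^ (1 : ℤ) * (z5 ^ (5 : ℤ) * (z6 ^ (0 : ℤ) * (z7 ^ (0 : ℤ) * (z8 ^ (0 : ℤ) * (z9 ^ (8 : ℤ) * (z10 ^ (-1 : ℤ) * 1)))))))))) = 1 := h9
      have := congrArg Additive.ofMul h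
      simpa only [ofMul_mul, ofMul_zpow, ofMul_one] using this)
    (by
      have h : z0 ^ (-6 : ℤ) * (z1 ^ (-4 : ℤ) * (z2 ^ (-19 : ℤ) * (z3 ^ (15 : ℤ) * (z4 ^ (16 : ℤ) * (z5 ^ (-7 : ℤ) * (z6 ^ (0 : ℤ) * (z7 ^ (0 : ℤ) * (z8 ^ (0 : ℤ) * (z9 ^ (9 : ℤ) * (z10 ^ (-10 : ℤ) * 1)))))))))) = 1 := h10
      have := congrArg Additive.ofMul h
      simpa only [ofMul_mul, ofMul_zpow, ofMul_one] using this)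
    (by
      have h : z0 ^ (-28 : ℤ) * (z1 ^ (-14 : ℤ) * (z2 ^ (-14 : ℤ) * (z3 ^ (12 : ℤ) * (z4 ^ (12 : ℤ) * (z5 ^ (-12 : ℤ) * (z6 ^ (-1 : ℤ) * (z7 ^ (0 : ℤ) * (z8 ^ (0 : ℤ) * (z9 ^ (24 : ℤ) * (z10 ^ (-2 : ℤ) * 1)))))))))) = 1 := h11
      have := congrArg Additive.ofMul h
      simpa only [ofMul_mul, ofMul_zpow, ofMul_one] using this)
    (by
      have h : z0 ^ (-1 : ℤ) * (z1 ^ (0 : ℤ) * (z2 ^ (0 : ℤ) * (z3 ^ (1 : ℤ) * (z4 ^ (0 : ℤ) * (z5 ^ (0 : ℤ) * (z6 ^ (0 : ℤ) * (z7 ^ (0 : ℤ) * (z8 ^ (0 : ℤ) * (z9 ^ (-1 : ℤ) * (z10 ^ (0 : ℤ) * 1)))))))))) = 1 := h12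
      have := congrArg Additive.ofMul h
      simpa only [ofMul_mul, ofMul_zpow, ofMul_one] using this)
    (by
      have h : z0 ^ (-2 : ℤ) * (z1 ^ (2 : ℤ) * (z2 ^ (0 : ℤ) * (z3 ^ (0 : ℤ) * (z4 ^ (0 : ℤ) * (z5 ^ (0 : ℤ) * (z6 ^ (0 : ℤ) * (z7 ^ (0 : ℤ) * (z8 ^ (0 : ℤ) * (z9 ^ (0 : ℤ) * (z10 ^ (0 : ℤ) * 1)))))))))) = 1 := h13
      have := congrArg Additive.ofMul h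
      simpa only [ofMul_mul, ofMul_zpow, ofMul_one] using this)
    (by
      have h : z0 ^ (0 : ℤ) * (z1 ^ (0 : ℤ) * (z2 ^ (2 : ℤ) * (z3 ^ (-2 : ℤ) * (z4 ^ (0 : ℤ) * (z5 ^ (0 : ℤ) * (z6 ^ (0 : ℤ) * (z7 ^ (0 : ℤ) * (z8 ^ (0 : ℤ) * (z9 ^ (0 : ℤ) * (z10 ^ (0 : ℤ) * 1)))))))))) = 1 := h14
      have := congrArg Additive.ofMul h
      simpa only [ofMul_mul, ofMul_zpow, ofMul_one] using this)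
    (by
      have h : z0 ^ (1 : ℤ) * (z1 ^ (-2 : ℤ) * (z2 ^ (0 : ℤ) * (z3 ^ (1 : ℤ) * (z4 ^ (0 : ℤ) * (z5 ^ (0 : ℤ) * (z6 ^ (0 : ℤ) * (z7 ^ (0 : ℤ) * (z8 ^ (0 : ℤ) * (z9 ^ (-1 : ℤ) * (z10 ^ (0 : ℤ) * 1)))))))))) = 1 := h15
      have := congrArg Additive.ofMul h
      simpa only [ofMul_mul, ofMul_zpow, ofMul_one] using this)
    (by
      have h : z0 ^ (-2 : ℤ) * (z1 ^ (0 : ℤ) * (z2 ^ (1 : ℤ) * (z3 ^ (-1 : ℤ) * (z4 ^ (0 : ℤ) * (z5 ^ (0 : ℤ) * (z6 ^ (0 : ℤ) * (z7 ^ (0 : ℤ) * (z8 ^ (0 : ℤ) * (z9 ^ (1 : ℤ) * (z10 ^ (0 : ℤ) * 1)))))))))) = 1 := h16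
      have := congrArg Additive.ofMul h
      simpa only [ofMul_mul, ofMul_zpow, ofMul_one] using this)
    (by
      have h : z0 ^ (-1 : ℤ) * (z1 ^ (0 : ℤ) * (z2 ^ (2 : ℤ) * (z3 ^ (-1 : ℤ) * (z4 ^ (0 : ℤ) * (z5 ^ (0 : ℤ) * (z6 ^ (0 : ℤ) * (z7 ^ (0 : ℤ) * (z8 ^ (0 : ℤ) * (z9 ^ (-1 : ℤ) * (z10 ^ (0 : ℤ) * 1)))))))))) = 1 := h17
      have := congrArg Additive.ofMul h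
      simpa only [ofMul_mul, ofMul_zpow, ofMul_one] using this)
    (by
      have h : z0 ^ (-2 : ℤ) * (z1 ^ (0 : ℤ) * (z2 ^ (-2 : ℤ) * (z3 ^ (0 : ℤ) * (z4 ^ (2 : ℤ) * (z5 ^ (0 : ℤ) * (z6 ^ (0 : ℤ) * (z7 ^ (0 : ℤ) * (z8 ^ (0 : ℤ) * (z9 ^ (0 : ℤ) * (z10 ^ (0 : ℤ) * 1)))))))))) = 1 := h18
      have := congrArg Additive.ofMul h
      simpa only [ofMul_mul, ofMul_zpow, ofMul_one] using this)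
    (by
      have h : z0 ^ (2 : ℤ) * (z1 ^ (0 : ℤ) * (z2 ^ (0 : ℤ) * (z3 ^ (2 : ℤ) * (z4 ^ (0 : ℤ) * (z5 ^ (0 : ℤ) * (z6 ^ (0 : ℤ) * (z7 ^ (0 : ℤ) * (z8 ^ (0 : ℤ) * (z9 ^ (0 : ℤ) * (z10 ^ (-2 : ℤ) * 1)))))))))) = 1 := h19
      have := congrArg Additive.ofMul h
      simpa only [ofMul_mul, ofMul_zpow, ofMul_one] using this)
    (by
      have h : z0 ^ (0 : ℤ) * (z1 ^ (-2 : ℤ) * (z2 ^ (-2 : ℤ) * (z3 ^ (0 : ℤ) * (z4 ^ (2 : ℤ) * (z5 ^ (0 : ℤ) * (z6 ^ (0 : ℤ) * (z7 ^ (0 : ℤ) * (z8 ^ (0 : ℤ) * (z9 ^ (0 : ℤ) * (z10 ^ (0 : ℤ) * 1)))))))))) = 1 := h20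
      have := congrArg Additive.ofMul h
      simpa only [ofMul_mul, ofMul_zpow, ofMul_one] using this)
    (by
      have h : z0 ^ (2 : ℤ) * (z1 ^ (0 : ℤ) * (z2 ^ (-2 : ℤ) * (z3 ^ (0 : ℤ) * (z4 ^ (0 : ℤ) * (z5 ^ (0 : ℤ) * (z6 ^ (0 : ℤ) * (z7 ^ (0 : ℤ) * (z8 ^ (0 : ℤ) * (z9 ^ (2 : ℤ) * (z10 ^ (0 : ℤ) * 1)))))))))) = 1 := h21
      have := congrArg Additive.ofMul h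
      simpa only [ofMul_mul, ofMul_zpow, ofMul_one] using this)
    (by
      have h : z0 ^ (-2 : ℤ) * (z1 ^ (0 : ℤ) * (z2 ^ (0 : ℤ) * (z3 ^ (2 : ℤ) * (z4 ^ (0 : ℤ) * (z5 ^ (0 : ℤ) * (z6 ^ (0 : ℤ) * (z7 ^ (0 : ℤ) * (z8 ^ (0 : ℤ) * (z9 ^ (-2 : ℤ) * (z10 ^ (0 : ℤ) * 1)))))))))) = 1 := h22
      have := congrArg Additive.ofMul h
      simpa only [ofMul_mul, ofMul_zpow, ofMul_one] using this)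
    (by
      have h : z0 ^ (0 : ℤ) * (z1 ^ (-2 : ℤ) * (z2 ^ (0 : ℤ) * (z3 ^ (-2 : ℤ) * (z4 ^ (0 : ℤ) * (z5 ^ (0 : ℤ) * (z6 ^ (0 : ℤ) * (z7 ^ (0 : ℤ) * (z8 ^ (0 : ℤ) * (z9 ^ (0 : ℤ) * (z10 ^ (2 : ℤ) * 1)))))))))) = 1 := h23
      have := congrArg Additive.ofMul h
      simpa only [ofMul_mul, ofMul_zpow, ofMul_one] using this)
    (by
      have h : z0 ^ (2 : ℤ) * (z1 ^ (2 : ℤ) * (z2 ^ (0 : ℤ) * (z3 ^ (0 : ℤ) * (z4 ^ (0 : ℤ) * (z5 ^ (0 : ℤ) * (z6 ^ (0 : ℤ) * (z7 ^ (0 : ℤ) * (z8 ^ (0 : ℤ) * (z9 ^ (-2 : ℤ) * (z10 ^ (0 : ℤ) * 1)))))))))) = 1 := h24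
      have := congrArg Additive.ofMul h
      simpa only [ofMul_mul, ofMul_zpow, ofMul_one] using this)
    (by
      have h : z0 ^ (1 : ℤ) * (z1 ^ (0 : ℤ) * (z2 ^ (-1 : ℤ) * (z3 ^ (2 : ℤ) * (z4 ^ (0 : ℤ) * (z5 ^ (0 : ℤ) * (z6 ^ (0 : ℤ) * (z7 ^ (0 : ℤ) * (z8 ^ (0 : ℤ) * (z9 ^ (-2 : ℤ) * (z10 ^ (0 : ℤ) * 1)))))))))) = 1 := h25
      have := congrArg Additive.ofMul h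
      simpa only [ofMul_mul, ofMul_zpow, ofMul_one] using this)
    (by
      have h : z0 ^ (1 : ℤ) * (z1 ^ (-2 : ℤ) * (z2 ^ (-1 : ℤ) * (z3 ^ (0 : ℤ) * (z4 ^ (0 : ℤ) * (z5 ^ (0 : ℤ) * (z6 ^ (0 : ℤ) * (z7 ^ (0 : ℤ) * (z8 ^ (0 : ℤ) * (z9 ^ (2 : ℤ) * (z10 ^ (0 : ℤ) * 1)))))))))) = 1 := h26
      have := congrArg Additive.ofMul h
      simpa only [ofMul_mul, ofMul_zpow, ofMul_one] using this)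
    (by
      have h : z0 ^ (1 : ℤ) * (z1 ^ (0 : ℤ) * (z2 ^ (2 : ℤ) * (z3 ^ (1 : ℤ) * (z4 ^ (-2 : ℤ) * (z5 ^ (0 : ℤ) * (z6 ^ (0 : ℤ) * (z7 ^ (0 : ℤ) * (z8 ^ (0 : ℤ) * (z9 ^ (-1 : ℤ) * (z10 ^ (0 : ℤ) * 1)))))))))) = 1 := h27
      have := congrArg Additive.ofMul h
      simpa only [ofMul_mul, ofMul_zpow, ofMul_one] using this)
    (by
      have h : z0 ^ (1 : ℤ) * (z1 ^ (2 : ℤ) * (z2 ^ (0 : ℤ) * (z3 ^ (1 : ℤ) * (z4 ^ (0 : ℤ) * (z5 ^ (0 : ℤ) * (z6 ^ (0 : ℤ) * (z7 ^ (0 : ℤ) * (z8 ^ (0 : ℤ) * (z9 ^ (1 : ℤ) * (z10 ^ (-2 : ℤ) * 1)))))))))) = 1 := h28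
      have := congrArg Additive.ofMul h
      simpa only [ofMul_mul, ofMul_zpow, ofMul_one] using this)
    (by
      have h : z0 ^ (0 : ℤ) * (z1 ^ (0 : ℤ) * (z2 ^ (-2 : ℤ) * (z3 ^ (-2 : ℤ) * (z4 ^ (0 : ℤ) * (z5 ^ (0 : ℤ) * (z6 ^ (0 : ℤ) * (z7 ^ (0 : ℤ) * (z8 ^ (0 : ℤ) * (z9 ^ (2 : ℤ) * (z10 ^ (2 : ℤ) * 1)))))))))) = 1 := h29
      have := congrArg Additive.ofMul h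
      simpa only [ofMul_mul, ofMul_zpow, ofMul_one] using this)
  obtain ⟨k0, k1, k2, k3, k4, k5, k6, k7, k8, k9, k10⟩ := key
  refine ⟨?_, ?_, ?_, ?_, ?_, ?_, ?_, ?_, ?_, ?_, ?_⟩
  · apply Additive.ofMul.injective
    rw [ofMul_zpow, ofMul_one]; exact k0
  · apply Additive.ofMul.injective
    rw [ofMul_zpow]; exact k1
  · apply Additive.ofMul.injective
    rw [ofMul_zpow]; exact k2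
  · apply Additive.ofMul.injective
    rw [ofMul_zpow]; exact k3
  · apply Additive.ofMul.injective
    rw [ofMul_zpow]; exact k4
  · apply Additive.ofMul.injective
    rw [ofMul_zpow]; exact k5
  · apply Additive.ofMul.injective
    rw [ofMul_zpow]; exact k6
  · apply Additive.ofMul.injective
    rw [ofMul_zpow]; exact k7
  · apply Additive.ofMul.injective
    rw [ofMul_zpow]; exact k8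
  · apply Additive.ofMul.injective
    rw [ofMul_zpow]; exact k9
  · apply Additive.ofMul.injective
    rw [ofMul_zpow]; exact k10

end Cfsg.Agent.Lib.H17.HSM.Cert
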