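import Cfsg.Agent.Lib.H17.HSM.Cert.Data

set_option autoImplicit false
set_option maxRecDepth 100000

/-! # Word lists of the monomial certificate (generated) -/

namespace Cfsg.Agent.Lib.H17.HSM.Cert

open Cfsg.Agent.Lib.H17.CosetCert (BT WT)
open Cfsg.Agent.Lib.H17.MonoCert

/-- the exact relators -/
def exactL : List (List ℕ) := [[0, 0], [2, 2, 2, 2], [0, 2, 0, 2, 0, 2, 0, 2, 0, 2, 0, 2, 0, 2, 0, 2, 0, 2, 0, 2, 0, 2], [0, 2, 2, 0, 2, 2, 0, 2, 2, 0, 2, 2, 0, 2, 2, 0, 2, 2], [0, 2, 0, 2, 0, 3, 0, 2, 0, 2, 2, 0, 3, 0, 2, 0, 3, 0, 3], [3, 3, 4, 0, 5, 2, 0, 2, 4, 0, 3, 5, 2, 0, 4, 2, 0, 2, 0, 2, 0, 5, 2, 4]]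

/-- the inverse pair words -/
def pairL : List (List ℕ) := [[0, 1], [1, 0], [2, 3], [3, 2], [4, 5], [5, 4]]

/-- the symbol relators -/
def symL : List (List ℕ) := [[4, 4], [3, 3, 0, 4, 0, 2, 2, 0, 4, 0], [3, 4, 3, 4, 3, 4, 3, 4, 3, 4, 3, 4], [3, 3, 4, 3, 4, 3, 3, 4, 3, 4, 2, 2, 4, 3, 4], [3, 4, 3, 4, 3, 4, 0, 4, 0, 3, 4, 3, 4, 3, 4, 0, 4, 0], [3, 0, 2, 0, 3, 4, 3, 4, 0, 2, 4, 2, 4, 2, 0, 4, 3, 4, 0], [3, 0, 4, 0, 4, 0, 2, 4, 0, 4, 3, 0, 4, 0, 4, 0, 2, 4, 0, 4], [3, 0, 2, 4, 2, 0, 3, 4, 3, 4, 0, 2, 4, 0, 4, 3, 0, 4, 2, 4, 2, 0, 3, 4], [3, 3, 0, 3, 4, 0, 4, 0, 3, 4, 3, 0, 3, 3, 0, 3, 4, 0, 4, 0, 3, 4, 3, 0], [3, 3, 0, 3, 0, 3, 3, 0, 3, 0, 3, 3, 0, 4, 3,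 4, 2, 4, 3, 4, 0], [3, 3, 0, 3, 3, 4, 3, 3, 4, 3, 3, 4, 3, 4, 0, 2, 2, 4, 2, 4, 0, 4, 3, 4]]

/-- the other central relators -/
def cenL : List (List ℕ) := [[3, 3, 4, 3, 4, 0, 3, 0, 3, 0, 3, 4, 0, 3, 4, 2, 0, 4, 3, 0, 3, 4, 0, 4], [3, 0, 2, 0, 4, 2, 0, 3, 4, 0, 3, 0, 2, 0, 4, 2, 0, 3, 4, 0], [3, 0, 2, 0, 3, 4, 3, 4, 0, 4, 3, 4, 3, 4, 3, 4, 0, 4, 3, 4, 0], [3, 3, 3, 0, 4, 2, 0, 3, 4, 0, 3, 0, 2, 0, 4, 2, 0, 3, 4, 0, 3, 0], [3, 3, 3, 0, 3, 0, 2, 0, 4, 2, 4, 0, 4, 2, 4, 2, 4, 2, 4, 0, 4, 2, 4], [3, 4, 3, 4, 2, 4, 3, 4, 3, 4, 2, 4, 2, 4, 3, 4, 2, 4, 2, 4], [3, 0, 4, 0, 2, 4, 2, 4, 3, 4, 2, 4, 0, 4, 0, 4, 3, 4, 2, 4, 3, 4], [3, 4, 2, 0, 4, 0, 3, 4, 2, 4, 3, 4,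 2, 4, 0, 4, 0, 4, 3, 4, 2, 4], [3, 4, 2, 0, 4, 0, 4, 3, 4, 2, 4, 3, 4, 2, 0, 4, 0, 4, 3, 4, 2, 4], [3, 3, 4, 3, 3, 4, 3, 3, 4, 3, 4, 2, 2, 4, 2, 2, 4, 3, 3, 4, 3, 4], [3, 3, 4, 3, 3, 4, 3, 3, 4, 3, 4, 2, 2, 4, 2, 2, 4, 2, 2, 4, 3, 4], [3, 3, 4, 3, 3, 4, 3, 3, 4, 2, 4, 2, 2, 4, 2, 2, 4, 3, 3, 4, 2, 4], [3, 3, 3, 4, 2, 2, 4, 2, 2, 4, 2, 2, 4, 2, 4, 3, 3, 4, 3, 3, 4, 3, 3, 4], [3, 3, 0, 3, 0, 2, 2, 0, 3, 0, 3, 3, 0, 4, 3, 4, 2, 4, 3, 4, 0], [3, 3, 0, 3, 0, 2, 2, 0, 3, 0, 2, 2, 0, 4, 3, 4, 2, 4, 3, 4, 0], [3, 3, 0, 3, 0, 2, 2, 0, 3, 4, 0, 3, 3, 0, 3, 4, 2, 4, 3, 4, 0], [3, 3, 0, 3, 0, 2, 2, 0, 3, 4, 0, 2, 2, 0, 3, 4, 2, 4, 3, 4, 0], [3, 3, 0, 3, 4, 2, 4, 3,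 4, 2, 4, 0, 3, 3, 0, 4, 2, 4, 3, 4, 2, 4, 3, 0], [3, 3, 0, 3, 4, 2, 4, 3, 4, 2, 4, 0, 2, 2, 0, 2, 4, 3, 4, 2, 4, 3, 4, 0], [3, 3, 0, 3, 4, 2, 4, 3, 4, 2, 4, 0, 2, 2, 0, 4, 2, 4, 3, 4, 2, 4, 3, 0], [3, 3, 0, 2, 4, 3, 4, 2, 4, 3, 4, 0, 3, 3, 0, 4, 3, 4, 2, 4, 3, 4, 2, 0], [3, 3, 4, 3, 0, 2, 4, 3, 3, 4, 3, 0, 2, 4, 2, 2, 4, 3, 0, 2, 4], [3, 3, 3, 4, 3, 3, 4, 3, 0, 2, 4, 3, 3, 4, 3, 0, 2, 4, 2, 2, 4, 3, 0], [3, 3, 3, 4, 3, 3, 4, 3, 0, 2, 4, 2, 2, 4, 3, 0, 2, 4, 2, 2, 4, 3, 0], [3, 3, 3, 4, 2, 2, 4, 3, 0, 2, 4, 3, 3, 4, 3, 0, 2, 4, 3, 3, 4, 3, 0], [3, 3, 0, 2, 0, 3, 0, 3, 3, 0, 2, 0, 3, 4, 0, 2, 2, 0, 4, 2, 0, 3, 0], [3, 3, 0, 2, 0, 3, 0, 2, 2, 0, 2, 0, 3, 4,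 0, 3, 3, 0, 4, 2, 0, 3, 0], [3, 3, 0, 2, 0, 3, 4, 0, 3, 3, 0, 4, 2, 0, 3, 0, 2, 2, 0, 2, 0, 3, 0], [3, 3, 4, 3, 4, 2, 4, 2, 4, 3, 4, 2, 2, 4, 2, 4, 3, 4, 3, 4, 2, 4], [3, 0, 3, 0, 3, 0, 4, 0, 2, 0, 2, 0, 2, 0, 3, 4, 2, 0], [3, 3, 0, 2, 0, 3, 0, 3, 4, 2, 0, 2, 0, 3, 0, 3, 3, 4], [3, 3, 0, 2, 0, 3, 0, 3, 4, 2, 0, 2, 0, 3, 0, 2, 2, 4], [3, 3, 4, 2, 2, 0, 2, 0, 3, 0, 3, 4, 2, 0, 2, 0, 3, 0], [0, 0], [2, 2, 2, 2]]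

/-- the unit vectors -/
def unitL : List (List ℤ) := [[(1 : ℤ), (0 : ℤ), (0 : ℤ), (0 : ℤ), (0 : ℤ), (0 : ℤ), (0 : ℤ), (0 : ℤ), (0 : ℤ), (0 : ℤ), (0 : ℤ)], [(0 : ℤ), (1 : ℤ), (0 : ℤ), (0 : ℤ), (0 : ℤ), (0 : ℤ), (0 : ℤ), (0 : ℤ), (0 : ℤ), (0 : ℤ), (0 : ℤ)], [(0 : ℤ), (0 : ℤ), (1 : ℤ), (0 : ℤ), (0 : ℤ), (0 : ℤ), (0 : ℤ), (0 : ℤ), (0 : ℤ), (0 : ℤ), (0 : ℤ)], [(0 : ℤ), (0 : ℤ), (0 : ℤ), (1 : ℤ), (0 : ℤ), (0 : ℤ), (0 : ℤ), (0 : ℤ), (0 : ℤ), (0 : ℤ), (0 : ℤ)], [(0 : ℤ), (0 : ℤ), (0 : ℤ), (0 : ℤ), (1 : ℤ), (0 : ℤ), (0 : ℤ), (0 : ℤ), (0 : ℤ), (0 : ℤ), (0 : ℤ)], [(0 : ℤ), (0 : ℤ), (0 : ℤ), (0 : ℤ), (0 : ℤ), (1 : ℤ), (0 : ℤ), (0 : ℤ), (0 : ℤ), (0 : ℤ), (0 : ℤ)], [(0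 : ℤ), (0 : ℤ), (0 : ℤ), (0 : ℤ), (0 : ℤ), (0 : ℤ), (1 : ℤ), (0 : ℤ), (0 : ℤ), (0 : ℤ), (0 : ℤ)], [(0 : ℤ), (0 : ℤ), (0 : ℤ), (0 : ℤ), (0 : ℤ), (0 : ℤ), (0 : ℤ), (1 : ℤ), (0 : ℤ), (0 : ℤ), (0 : ℤ)], [(0 : ℤ), (0 : ℤ), (0 : ℤ), (0 : ℤ), (0 : ℤ), (0 : ℤ), (0 : ℤ), (0 : ℤ), (1 : ℤ), (0 : ℤ), (0 : ℤ)], [(0 : ℤ), (0 : ℤ), (0 : ℤ), (0 : ℤ), (0 : ℤ), (0 : ℤ), (0 : ℤ), (0 : ℤ), (0 : ℤ), (1 : ℤ), (0 : ℤ)], [(0 : ℤ), (0 : ℤ), (0 : ℤ), (0 : ℤ), (0 : ℤ), (0 : ℤ), (0 : ℤ), (0 : ℤ), (0 : ℤ), (0 : ℤ), (1 : ℤ)]]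

theorem seed_cases : ∀ p ∈ seedL, (p.2 = List.replicate 11 0 ∧ p.1 ∈ exactL ++ pairL) ∨
    p ∈ List.zip symL unitL := by
  decide

theorem rel_cases : ∀ w ∈ relL, w ∈ exactL ++ pairL ∨ w ∈ symL ++ cenL := by
  decide

/-- the pairs of words giving the relations, with the difference of their twists -/
def relPairs : List (ℕ × ℕ × List ℤ) := [(36, 58, [(1 : ℤ), (0 : ℤ), (1 : ℤ), (0 : ℤ), (0 : ℤ), (0 : ℤ), (0 : ℤ), (0 : ℤ), (0 : ℤ), (-2 : ℤ), (0 : ℤ)]), (56, 59, [(-2 : ℤ), (0 : ℤ), (0 : ℤ), (0 : ℤ), (2 : ℤ), (0 : ℤ), (0 : ℤ), (0 : ℤ), (-2 : ℤ), (0 : ℤ), (0 : ℤ)]), (53, 60, [(2 : ℤ), (-2 : ℤ), (2 : ℤ), (-2 : ℤ), (2 : ℤ), (0 : ℤ), (0 : ℤ), (0 : ℤ), (0 : ℤ),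 (-2 : ℤ), (-1 : ℤ)]), (17, 61, [(-1 : ℤ), (0 : ℤ), (0 : ℤ), (3 : ℤ), (0 : ℤ), (-2 : ℤ), (0 : ℤ), (0 : ℤ), (0 : ℤ), (1 : ℤ), (-1 : ℤ)]), (33, 62, [(0 : ℤ), (1 : ℤ), (-2 : ℤ), (1 : ℤ), (2 : ℤ), (0 : ℤ), (0 : ℤ), (0 : ℤ), (0 : ℤ), (-3 : ℤ), (0 : ℤ)]), (36, 63, [(5 : ℤ), (-4 : ℤ), (-2 : ℤ), (3 : ℤ), (0 : ℤ), (0 : ℤ), (0 : ℤ), (0 : ℤ), (0 : ℤ), (-2 : ℤ), (0 : ℤ)]), (42, 64, [(-4 : ℤ), (3 : ℤ), (0 : ℤ), (0 : ℤ), (-2 : ℤ), (0 : ℤ), (0 : ℤ), (0 : ℤ), (-1 : ℤ), (6 : ℤ), (0 : ℤ)]), (2, 65, [(-8 : ℤ), (0 : ℤ), (0 : ℤ), (0 : ℤ), (0 : ℤ), (0 : ℤ), (0 : ℤ), (2 : ℤ), (0 : ℤ), (0 : ℤ), (0 : ℤ)]), (21, 66, [(12 : ℤ), (-10 : ℤ), (5 : ℤ), (-3 : ℤ), (-2 : ℤ), (-6 : ℤ), (0 :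 ℤ), (-1 : ℤ), (0 : ℤ), (9 : ℤ), (1 : ℤ)]), (53, 67, [(-13 : ℤ), (15 : ℤ), (-17 : ℤ), (6 : ℤ), (1 : ℤ), (5 : ℤ), (0 : ℤ), (0 : ℤ), (0 : ℤ), (8 : ℤ), (-1 : ℤ)]), (25, 68, [(-6 : ℤ), (-4 : ℤ), (-19 : ℤ), (15 : ℤ), (16 : ℤ), (-7 : ℤ), (0 : ℤ), (0 : ℤ), (0 : ℤ), (9 : ℤ), (-10 : ℤ)]), (20, 69, [(-28 : ℤ), (-14 : ℤ), (-14 : ℤ), (12 : ℤ), (12 : ℤ), (-12 : ℤ), (-1 : ℤ), (0 : ℤ), (0 : ℤ), (24 : ℤ), (-2 : ℤ)]), (14, 70, [(-1 : ℤ), (0 : ℤ), (0 : ℤ), (1 : ℤ), (0 : ℤ), (0 : ℤ), (0 : ℤ), (0 : ℤ), (0 : ℤ), (-1 : ℤ), (0 : ℤ)]), (2, 71, [(-2 : ℤ), (2 : ℤ), (0 : ℤ), (0 : ℤ), (0 : ℤ), (0 : ℤ), (0 : ℤ), (0 : ℤ), (0 : ℤ), (0 : ℤ), (0 : ℤ)]), (30, 72, [(0 : ℤ), (0 : ℤ), (2 : ℤ),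 (-2 : ℤ), (0 : ℤ), (0 : ℤ), (0 : ℤ), (0 : ℤ), (0 : ℤ), (0 : ℤ), (0 : ℤ)]), (17, 73, [(1 : ℤ), (-2 : ℤ), (0 : ℤ), (1 : ℤ), (0 : ℤ), (0 : ℤ), (0 : ℤ), (0 : ℤ), (0 : ℤ), (-1 : ℤ), (0 : ℤ)]), (30, 74, [(-2 : ℤ), (0 : ℤ), (1 : ℤ), (-1 : ℤ), (0 : ℤ), (0 : ℤ), (0 : ℤ), (0 : ℤ), (0 : ℤ), (1 : ℤ), (0 : ℤ)]), (53, 75, [(-1 : ℤ), (0 : ℤ), (2 : ℤ), (-1 : ℤ), (0 : ℤ), (0 : ℤ), (0 : ℤ), (0 : ℤ), (0 : ℤ), (-1 : ℤ), (0 : ℤ)]), (2, 76, [(-2 : ℤ), (0 : ℤ), (-2 : ℤ), (0 : ℤ), (2 : ℤ), (0 : ℤ), (0 : ℤ), (0 : ℤ), (0 : ℤ), (0 : ℤ), (0 : ℤ)]), (2, 77, [(2 : ℤ), (0 : ℤ), (0 : ℤ), (2 : ℤ), (0 : ℤ), (0 : ℤ), (0 : ℤ), (0 : ℤ), (0 : ℤ), (0 : ℤ), (-2 : ℤ)]), (2, 78, [(0 : ℤ), (-2 :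 ℤ), (-2 : ℤ), (0 : ℤ), (2 : ℤ), (0 : ℤ), (0 : ℤ), (0 : ℤ), (0 : ℤ), (0 : ℤ), (0 : ℤ)]), (3, 79, [(2 : ℤ), (0 : ℤ), (-2 : ℤ), (0 : ℤ), (0 : ℤ), (0 : ℤ), (0 : ℤ), (0 : ℤ), (0 : ℤ), (2 : ℤ), (0 : ℤ)]), (14, 80, [(-2 : ℤ), (0 : ℤ), (0 : ℤ), (2 : ℤ), (0 : ℤ), (0 : ℤ), (0 : ℤ), (0 : ℤ), (0 : ℤ), (-2 : ℤ), (0 : ℤ)]), (14, 81, [(0 : ℤ), (-2 : ℤ), (0 : ℤ), (-2 : ℤ), (0 : ℤ), (0 : ℤ), (0 : ℤ), (0 : ℤ), (0 : ℤ), (0 : ℤ), (2 : ℤ)]), (30, 82, [(2 : ℤ), (2 : ℤ), (0 : ℤ), (0 : ℤ), (0 : ℤ), (0 : ℤ), (0 : ℤ), (0 : ℤ), (0 : ℤ), (-2 : ℤ), (0 : ℤ)]), (30, 83, [(1 : ℤ), (0 : ℤ), (-1 : ℤ), (2 : ℤ), (0 : ℤ), (0 : ℤ), (0 : ℤ), (0 : ℤ), (0 : ℤ), (-2 : ℤ), (0 : ℤ)]), (38, 84, [(1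 : ℤ), (-2 : ℤ), (-1 : ℤ), (0 : ℤ), (0 : ℤ), (0 : ℤ), (0 : ℤ), (0 : ℤ), (0 : ℤ), (2 : ℤ), (0 : ℤ)]), (18, 85, [(1 : ℤ), (0 : ℤ), (2 : ℤ), (1 : ℤ), (-2 : ℤ), (0 : ℤ), (0 : ℤ), (0 : ℤ), (0 : ℤ), (-1 : ℤ), (0 : ℤ)]), (45, 86, [(1 : ℤ), (2 : ℤ), (0 : ℤ), (1 : ℤ), (0 : ℤ), (0 : ℤ), (0 : ℤ), (0 : ℤ), (0 : ℤ), (1 : ℤ), (-2 : ℤ)]), (2, 87, [(0 : ℤ), (0 : ℤ), (-2 : ℤ), (-2 : ℤ), (0 : ℤ), (0 : ℤ), (0 : ℤ), (0 : ℤ), (0 : ℤ), (2 : ℤ), (2 : ℤ)])]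

/-- check of a relation pair: same relator word, twists differing by `v` -/
noncomputable def relChk (p : ℕ × ℕ × List ℤ) : Bool :=
  match WT.get words p.1, WT.get words p.2.1 with
  | some (wd1, true), some (wd2, true) => decide (wd1 = wd2) && decide (Ev p.2.1 = ladd (Ev p.1) p.2.2) &&
      decide (p.1 < 88) && decide (p.2.1 < 88)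
  | _, _ => false

theorem rel_chk : ∀ p ∈ relPairs, relChk p = true := by
  decide +kernel

end Cfsg.Agent.Lib.H17.HSM.Cert
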