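import Cfsg.Agent.Lib.H17.HSM.Cert.StepsA
import Cfsg.Agent.Lib.H17.HSM.Cert.StepsB
import Cfsg.Agent.Lib.H17.HSM.Cert.StepsC
import Cfsg.Agent.Lib.H17.HSM.Cert.StepsD
import Cfsg.Agent.Lib.H17.HSM.Cert.StepsE
import Cfsg.Agent.Lib.H17.HSM.Cert.StepsF
import Cfsg.Agent.Lib.H17.HSM.Cert.StepsG
import Cfsg.Agent.Lib.H17.HSM.Cert.StepsH
import Cfsg.Agent.Lib.H17.HSM.Cert.StepsI
import Cfsg.Agent.Lib.H17.HSM.Cert.Rows

set_option autoImplicit false
set_option maxRecDepth 100000

/-! # Running the monomial certificate (generated) -/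

namespace Cfsg.Agent.Lib.H17.HSM.Cert

open Cfsg.Agent.Lib.H17.CosetCert (BT WT)
open Cfsg.Agent.Lib.H17.MonoCert

variable {G Q A : Type*} [Group G] [MulAction G Q] [Group A] [MulAction A Q]
  [SMulCommClass G A Q] (tw : List ℤ → A) (γ : ℕ → G)

theorem run (hfree : ∀ (α β : A) (q : Q), α • q = β • q → α = β)
    (htw : TwOK ladd (List.replicate 11 0) leq tw) (q0 : Q) (hw : WordsOK Ev tw γ q0 words 25) :
    Inv F Ev tw γ q0 words 33600 5600 88 := by
  have h0 := inv_zero F Ev tw γ q0 words 25 hw
  have h1 := checkSteps_sound ladd (List.replicate 11 0) leq F Ev 6 65536 tw γ hfree htw q0 words 25 hw steps0 0 1 25 1000 376 25 h0 chk0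
  have h2 := checkSteps_sound ladd (List.replicate 11 0) leq F Ev 6 65536 tw γ hfree htw q0 words 25 hw steps1 1000 376 25 2000 754 25 h1 chk1
  have h3 := checkSteps_sound ladd (List.replicate 11 0) leq F Ev 6 65536 tw γ hfree htw q0 words 25 hw steps2 2000 754 25 3000 1126 25 h2 chk2
  have h4 := checkSteps_sound ladd (List.replicate 11 0) leq F Ev 6 65536 tw γ hfree htw q0 words 25 hw steps3 3000 1126 25 4000 1496 25 h3 chk3
  have h5 := checkSteps_sound ladd (List.replicate 11 0) leq F Ev 6 65536 tw γ hfree htw q0 words 25 hw steps4 4000 1496 25 5000 1865 25 h4 chk4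
  have h6 := checkSteps_sound ladd (List.replicate 11 0) leq F Ev 6 65536 tw γ hfree htw q0 words 25 hw steps5 5000 1865 25 6000 2240 25 h5 chk5
  have h7 := checkSteps_sound ladd (List.replicate 11 0) leq F Ev 6 65536 tw γ hfree htw q0 words 25 hw steps6 6000 2240 25 7000 2621 25 h6 chk6
  have h8 := checkSteps_sound ladd (List.replicate 11 0) leq F Ev 6 65536 tw γ hfree htw q0 words 25 hw steps7 7000 2621 25 8000 2995 25 h7 chk7
  have h9 := checkSteps_sound ladd (List.replicate 11 0) leq F Ev 6 65536 tw γ hfree htw q0 words 25 hw steps8 8000 2995 25 9000 3373 25 h8 chk8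
  have h10 := checkSteps_sound ladd (List.replicate 11 0) leq F Ev 6 65536 tw γ hfree htw q0 words 25 hw steps9 9000 3373 25 10000 3754 25 h9 chk9
  have h11 := checkSteps_sound ladd (List.replicate 11 0) leq F Ev 6 65536 tw γ hfree htw q0 words 25 hw steps10 10000 3754 25 11000 4129 25 h10 chk10
  have h12 := checkSteps_sound ladd (List.replicate 11 0) leq F Ev 6 65536 tw γ hfree htw q0 words 25 hw steps11 11000 4129 25 12000 4511 25 h11 chk11
  have h13 := checkSteps_sound ladd (List.replicate 11 0) leq F Ev 6 65536 tw γ hfree htw q0 words 25 hw steps12 12000 4511 25 13000 4892 25 h12 chk12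
  have h14 := checkSteps_sound ladd (List.replicate 11 0) leq F Ev 6 65536 tw γ hfree htw q0 words 25 hw steps13 13000 4892 25 14000 5261 25 h13 chk13
  have h15 := checkSteps_sound ladd (List.replicate 11 0) leq F Ev 6 65536 tw γ hfree htw q0 words 25 hw steps14 14000 5261 25 15000 5600 25 h14 chk14
  have h16 := checkSteps_sound ladd (List.replicate 11 0) leq F Ev 6 65536 tw γ hfree htw q0 words 25 hw steps15 15000 5600 25 16000 5600 25 h15 chk15
  have h17 := checkSteps_sound ladd (List.replicate 11 0) leq F Ev 6 65536 tw γ hfree htw q0 words 25 hw steps16 16000 5600 25 17000 5600 25 h16 chk16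
  have h18 := checkSteps_sound ladd (List.replicate 11 0) leq F Ev 6 65536 tw γ hfree htw q0 words 25 hw steps17 17000 5600 25 18000 5600 25 h17 chk17
  have h19 := checkSteps_sound ladd (List.replicate 11 0) leq F Ev 6 65536 tw γ hfree htw q0 words 25 hw steps18 18000 5600 25 18971 5600 54 h18 chk18
  have h20 := checkSteps_sound ladd (List.replicate 11 0) leq F Ev 6 65536 tw γ hfree htw q0 words 25 hw steps19 18971 5600 54 19967 5600 58 h19 chk19
  have h21 := checkSteps_sound ladd (List.replicate 11 0) leq F Ev 6 65536 tw γ hfree htw q0 words 25 hw steps20 19967 5600 58 20967 5600 58 h20 chk20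
  have h22 := checkSteps_sound ladd (List.replicate 11 0) leq F Ev 6 65536 tw γ hfree htw q0 words 25 hw steps21 20967 5600 58 21967 5600 58 h21 chk21
  have h23 := checkSteps_sound ladd (List.replicate 11 0) leq F Ev 6 65536 tw γ hfree htw q0 words 25 hw steps22 21967 5600 58 22967 5600 58 h22 chk22
  have h24 := checkSteps_sound ladd (List.replicate 11 0) leq F Ev 6 65536 tw γ hfree htw q0 words 25 hw steps23 22967 5600 58 23967 5600 58 h23 chk23
  have h25 := checkSteps_sound ladd (List.replicate 11 0) leq F Ev 6 65536 tw γ hfree htw q0 words 25 hw steps24 23967 5600 58 24967 5600 58 h24 chk24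
  have h26 := checkSteps_sound ladd (List.replicate 11 0) leq F Ev 6 65536 tw γ hfree htw q0 words 25 hw steps25 24967 5600 58 25967 5600 58 h25 chk25
  have h27 := checkSteps_sound ladd (List.replicate 11 0) leq F Ev 6 65536 tw γ hfree htw q0 words 25 hw steps26 25967 5600 58 26967 5600 58 h26 chk26
  have h28 := checkSteps_sound ladd (List.replicate 11 0) leq F Ev 6 65536 tw γ hfree htw q0 words 25 hw steps27 26967 5600 58 27967 5600 58 h27 chk27
  have h29 := checkSteps_sound ladd (List.replicate 11 0) leq F Ev 6 65536 tw γ hfree htw q0 words 25 hw steps28 27967 5600 58 28967 5600 58 h28 chk28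
  have h30 := checkSteps_sound ladd (List.replicate 11 0) leq F Ev 6 65536 tw γ hfree htw q0 words 25 hw steps29 28967 5600 58 29967 5600 58 h29 chk29
  have h31 := checkSteps_sound ladd (List.replicate 11 0) leq F Ev 6 65536 tw γ hfree htw q0 words 25 hw steps30 29967 5600 58 30967 5600 58 h30 chk30
  have h32 := checkSteps_sound ladd (List.replicate 11 0) leq F Ev 6 65536 tw γ hfree htw q0 words 25 hw steps31 30967 5600 58 31967 5600 58 h31 chk31
  have h33 := checkSteps_sound ladd (List.replicate 11 0) leq F Ev 6 65536 tw γ hfree htw q0 words 25 hw steps32 31967 5600 58 32967 5600 58 h32 chk32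
  have h34 := checkSteps_sound ladd (List.replicate 11 0) leq F Ev 6 65536 tw γ hfree htw q0 words 25 hw steps33 32967 5600 58 33600 5600 88 h33 chk33
  exact h34

end Cfsg.Agent.Lib.H17.HSM.Cert
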